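import Groth.Agent.SGA3x.K204.FinMTMain
import Groth.Agent.SGA3x.K21.MonoClosed
import Groth.Agent.S5246

/-!
# The scheme of monomorphisms from a group of multiplicative type and of finite type to a smooth affine group

* `exists_rep`: the functor of families of monomorphisms `H ⟶ G` is representable, by a smooth separated scheme;
* `exists_fam`: the universal family of subgroups, for `H = D(Γ)`, `Γ` finitely generated.
-/

set_option autoImplicit false
universe u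
open CategoryTheory MonoidalCategory CartesianMonoidalCategory MonObj GrpObj AlgebraicGeometry Limits

namespace K7.MonoHom

open Groth.Agent Groth.Agent.SGA3x Groth.Agent.SGA3x.K5.Clopen Groth.Agent.Sga3B Groth.Agent.Sga3B.BcPts
  Groth.Agent.Sga3B.MT Groth.Agent.Sga3B.Parab Groth.Agent.Redsub.H649.ConjPts K12.TrivKer K204.MonoScheme
  K204.FinMTLoc K204.SubRep K204.FinMTFam

variable {S : Scheme.{u}}

/-- **The scheme of monomorphisms.** -/
theorem exists_rep {H G : Over S} [GrpObj H] [GrpObj G] (hH : SGA3x.IsMultTypeFT H) (hG : Smooth G.hom)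
    (hGa : IsAffineHom G.hom) :
    ∃ (P : Over S) (χ : H ⊗ P ⟶ G), AutFam.IsHomFamily H G χ ∧ Triv χ ∧ Smooth P.hom ∧ IsSeparated P.hom ∧
      ∀ (X : Over S) (φ : H ⊗ X ⟶ G), AutFam.IsHomFamily H G φ → Triv φ → ∃! a : X ⟶ P, (H ◁ a) ≫ χ = φ := by
  obtain ⟨A, υ, ⟨hυ, hrep⟩, hA1, hA2⟩ := Groth.Agent.S5246.result H G hH hG hGa
  have hu := isMonHom_famMap hυ
  have hs : IsSeparated (Red.bc A.hom G).hom := inferInstanceAs (IsSeparated (pullback.snd _ _))
  have hl : LocallyOfFinitePresentation (Red.bc A.hom G).hom :=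
    inferInstanceAs (LocallyOfFinitePresentation (pullback.snd _ _))
  obtain ⟨W, hW, hWT⟩ := K204.MonoClopen.exists_clopen (_root_.K10.MTLoc.bc A.hom hH) (Or.inr hl) (famMap υ)
  let P : Over S := Over.mk (W.ι ≫ A.hom)
  let inc : P ⟶ A := Over.homMk W.ι rfl
  have hm : Mono inc.left := inferInstanceAs (Mono W.ι)
  have hm' : Mono inc := Over.mono_of_mono_left _
  refine ⟨P, (H ◁ inc) ≫ υ, isHomFamily_comp hυ inc, ?_, inferInstanceAs (Smooth (W.ι ≫ A.hom)),
    inferInstanceAs (IsSeparated (W.ι ≫ A.hom)), fun X φ hφ hφ' => ?_⟩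
  · rw [triv_iff, hWT]
    exact (Scheme.Opens.range_ι W).le
  · obtain ⟨a, ha, huniq⟩ := hrep X φ hφ
    have h3 : Set.range a.left ⊆ (W : Set A.left) := by
      rw [← hWT, ← triv_iff, ha]
      exact hφ'
    have h4 : Set.range a.left ⊆ Set.range W.ι := by rwa [Scheme.Opens.range_ι]
    have h5 := IsOpenImmersion.lift_fac W.ι a.left h4
    let b : X ⟶ P := Over.homMk (IsOpenImmersion.lift W.ι a.left h4) (by
      change _ ≫ W.ι ≫ A.hom = X.hom
      rw [← Category.assoc, h5, Over.w])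
    have hb : b ≫ inc = a := by
      ext1
      exact h5
    refine ⟨b, ?_, fun b' hb' => ?_⟩
    · change H ◁ b ≫ (H ◁ inc) ≫ υ = φ
      rw [← Category.assoc, ← MonoidalCategory.whiskerLeft_comp, hb, ha]
    · rw [← cancel_mono inc, hb]
      refine huniq _ ?_
      change H ◁ (b' ≫ inc) ≫ υ = φ
      rw [MonoidalCategory.whiskerLeft_comp, Category.assoc]
      exact hb'

variable {G : Over S} [GrpObj G]

/-- **The family of subgroups.** -/
theorem exists_fam {Γ : Type} [AddCommGroup Γ] (hfg : AddGroup.FG Γ) {P : Over S} {χ : Red.DS S Γ ⊗ P ⟶ G} (hχ : Rep χ)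
    [IsAffineHom G.hom] [LocallyOfFiniteType G.hom] {h : P.left ⟶ S} (hh : h = P.hom) :
    ∃ (T : Over P.left) (_ : GrpObj T) (t : T ⟶ Red.bc h G), IsMonHom t ∧ IsClosedImmersion t.left ∧ Mono t ∧
      SGA3x.IsMultTypeFT T ∧ Nonempty (Grp.mk T ≅ Grp.mk (Red.DS P.left Γ)) ∧ ∀ (X : Over S) (a : X ⟶ P) (γ : X ⟶ G),
        Pt t a.left γ.left ↔ ∃ d, lift d a ≫ χ = γ := by
  subst hh
  have hm := isMonHom_famMap hχ.hom
  have hmt : SGA3x.IsMultTypeFT (Red.DS S Γ) := _root_.K10.MTLoc.of_split hfg ⟨Iso.refl _⟩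
  have h2 : Mono (famMap χ) := by
    refine K12.TrivKer.mono_of_ker (A := Red.bc P.hom (Red.DS S Γ)) (B := Red.bc P.hom G) (famMap χ) fun T x hx => ?_
    have h3 := (triv_iff χ (𝟙 P)).1 (hχ.triv.comp (𝟙 P))
    exact h3 T T.hom (Category.comp_id _) x hx
  have h5 : IsAffineHom (Red.bc P.hom G).hom := MorphismProperty.pullback_snd (P := @IsAffineHom) _ _ ‹_›
  have h6 : LocallyOfFiniteType (Red.bc P.hom G).hom := inferInstanceAs (LocallyOfFiniteType (pullback.snd _ _))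
  have h3 : IsClosedImmersion (famMap χ).left :=
    K21.MonoClosed.isClosedImmersion (famMap χ) (_root_.K10.MTLoc.bc _ hmt)
  refine ⟨Red.bc P.hom (Red.DS S Γ), inferInstance, famMap χ, hm, h3, h2, _root_.K10.MTLoc.bc _ hmt,
    ⟨TorusAlgClosed.dsBcIso P.hom Γ⟩, fun X a γ => ?_⟩
  refine (memAt_iff_pt (f := P.hom) (famMap χ) a γ).symm.trans ?_
  constructor
  · rintro ⟨x, hx⟩
    rw [comp_famMap (X := P) χ x] at hx
    have h4 := (bcEquiv P.hom _ G).injective hx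
    rw [st_eq a] at h4
    refine ⟨(overIso (f := P.hom) a).inv ≫ (bcEquiv P.hom (Over.mk a.left) (Red.DS S Γ)).symm x, ?_⟩
    rw [← cancel_epi (overIso (f := P.hom) a).hom, ← h4, ← Category.assoc, comp_lift, Iso.hom_inv_id_assoc]
  · rintro ⟨d, hd⟩
    refine ⟨bcEquiv P.hom (Over.mk a.left) (Red.DS S Γ) ((overIso (f := P.hom) a).hom ≫ d), ?_⟩
    rw [comp_famMap (X := P) χ, Equiv.symm_apply_apply, st_eq a, ← comp_lift, Category.assoc, hd]

/-- Points of two families with the same pullbacks are locally related. -/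
theorem exists_equiv_of_same {Γ Δ : Type} [AddCommGroup Γ] [AddCommGroup Δ] [Module.Finite ℤ Γ] [Module.Finite ℤ Δ]
    {P Q : Over S}
    {χ : Red.DS S Γ ⊗ P ⟶ G} (hχ : Rep χ) {ψ : Red.DS S Δ ⊗ Q ⟶ G} (hψ : Rep ψ)
    {h : P.left ⟶ S} {h' : Q.left ⟶ S} (hh : h = P.hom) (hh' : h' = Q.hom)
    {T : Over P.left} (t : T ⟶ Red.bc h G) {T' : Over Q.left} (t' : T' ⟶ Red.bc h' G)
    (ht : ∀ (X : Over S) (a : X ⟶ P) (γ : X ⟶ G), Pt t a.left γ.left ↔ ∃ d, lift d a ≫ χ = γ)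
    (ht' : ∀ (X : Over S) (a : X ⟶ Q) (γ : X ⟶ G), Pt t' a.left γ.left ↔ ∃ d, lift d a ≫ ψ = γ)
    {Z : Scheme.{u}} (a : Z ⟶ P.left) (b : Z ⟶ Q.left) (hab : a ≫ h = b ≫ h') (hs : Same t t' a b) (z : Z) :
    ∃ (U : Z.Opens) (_ : z ∈ U) (ε : Δ ≃+ Γ), ∀ (X : Over S) (x : X ⟶ Over.mk (U.ι ≫ a ≫ h))
      (d : X ⟶ Red.DS S Γ), ∀ (p : X ⟶ P) (q : X ⟶ Q), p.left = x.left ≫ U.ι ≫ a → q.left = x.left ≫ U.ι ≫ b →
        lift d p ≫ χ = lift (d ≫ Red.DSmap S ε.toAddMonoidHom) q ≫ ψ := by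
  subst hh hh'
  let a' : Over.mk (a ≫ P.hom) ⟶ P := Over.homMk a rfl
  let b' : Over.mk (a ≫ P.hom) ⟶ Q := Over.homMk b hab.symm
  obtain ⟨U, hz, ε, hε⟩ := exists_near_equiv (a ≫ P.hom) ((Red.DS S Γ ◁ a') ≫ χ) ((Red.DS S Δ ◁ b') ≫ ψ)
    (isHomFamily_comp hχ.hom a') (isHomFamily_comp hψ.hom b') (hχ.triv.comp a') (hψ.triv.comp b')
    (fun X x γ => by
      have h1 := hs X.left x.left γ.left
      have e1 : x.left ≫ a = (x ≫ a').left := rfl
      have e2 : x.left ≫ b = (x ≫ b').left := rfl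
      rw [e1, e2, ht, ht'] at h1
      simpa only [lift_whisker] using h1) z
  refine ⟨U, hz, ε, fun X x d p q hp hq => ?_⟩
  let x' : X ⟶ Over.mk (a ≫ P.hom) := Over.homMk (x.left ≫ U.ι) (by
    have := Over.w x
    rw [← this]
    change (x.left ≫ U.ι) ≫ a ≫ P.hom = x.left ≫ U.ι ≫ a ≫ P.hom
    rw [Category.assoc])
  have e1 : x' ≫ a' = p := by
    ext1
    rw [hp]
    exact Category.assoc _ _ _
  have e2 : x' ≫ b' = q := by
    ext1
    rw [hq]
    exact Category.assoc _ _ _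
  have h2 := hε X d x' (by
    rintro _ ⟨w, rfl⟩
    change (x.left ≫ U.ι) w ∈ U
    rw [Scheme.Hom.comp_apply]
    exact (x.left w).2)
  rw [lift_whisker, lift_whisker, e1, e2] at h2
  exact h2

end K7.MonoHom
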